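import Groth.Agent.S0238
import Groth.Agent.S0041
import Groth.Agent.S1360
import Groth.Agent.AlgzLib.Finite
import Groth.Agent.FormalCohLib.ClosedAlg
import Groth.Agent.EtShLib.SplitFinite

/-! # Finite étale covers of the special fibre over complete rings lift -/

set_option autoImplicit false
set_option linter.style.haveILetI false

universe u

open CategoryTheory CategoryTheory.Limits AlgebraicGeometry

noncomputable section

namespace PiSep

variable {A : Type u} [CommRing A] (I : Ideal A) {X : Scheme.{u}} (f : X ⟶ Spec (CommRingCat.of A))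

theorem range_specQuot (n : ℕ) : Set.range (CohB1.specQuot I n) = PrimeSpectrum.zeroLocus (I : Set A) := by
  show Set.range (PrimeSpectrum.comap (Ideal.Quotient.mk (I ^ (n + 1)))) = _
  rw [range_comap_of_surjective _ _ Ideal.Quotient.mk_surjective, Ideal.mk_ker,
    PrimeSpectrum.zeroLocus_pow I n.succ_ne_zero]

theorem isClosedImmersion_thickι (n : ℕ) : IsClosedImmersion (CohB1.thickι f I n) := by
  haveI : IsClosedImmersion (CohB1.specQuot I n) := IsClosedImmersion.spec_of_surjective _ Ideal.Quotient.mk_surjective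
  exact MorphismProperty.pullback_fst _ _ ‹_›

theorem isClosedImmersion_thickTrans (n : ℕ) : IsClosedImmersion (CohB1.thickTrans f I n) := by
  haveI := isClosedImmersion_thickι I f (n + 1)
  haveI := isClosedImmersion_thickι I f n
  haveI : IsClosedImmersion (CohB1.thickTrans f I n ≫ CohB1.thickι f I (n + 1)) := by
    rw [FormalCohLib.thickTrans_thickι]; infer_instance
  exact IsClosedImmersion.of_comp _ (CohB1.thickι f I (n + 1))

theorem surjective_thickTrans (n : ℕ) : Surjective (CohB1.thickTrans f I n) := by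
  haveI := isClosedImmersion_thickι I f (n + 1)
  refine ⟨fun x => ?_⟩
  obtain ⟨y, hy⟩ : CohB1.thickι f I (n + 1) x ∈ Set.range (CohB1.thickι f I n) := by
    refine (Scheme.Pullback.range_fst f (CohB1.specQuot I n)).ge ?_
    rw [range_specQuot I n, ← range_specQuot I (n + 1)]
    exact (Scheme.Pullback.range_fst f (CohB1.specQuot I (n + 1))).subset ⟨x, rfl⟩
  refine ⟨y, (CohB1.thickι f I (n + 1)).isEmbedding.injective ?_⟩
  rw [← Scheme.Hom.comp_apply, FormalCohLib.thickTrans_thickι]
  exact hy

variable [IsNoetherianRing A] [IsAdicComplete I A] [IsProper f]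

theorem essSurj_thick : (FEt.restrict (CohB1.thickι f I 0)).EssSurj := by
  refine ⟨fun V => ?_⟩
  haveI := fun n => isClosedImmersion_thickTrans I f n
  haveI := fun n => surjective_thickTrans I f n
  haveI := fun n => Groth.Agent.S0238.result (CohB1.thickTrans f I n)
  let Ys : ∀ n, FEt.Cat (CohB1.thick f I n) := fun n =>
    Nat.rec (motive := fun n => FEt.Cat (CohB1.thick f I n)) V
      (fun n W => (FEt.restrict (CohB1.thickTrans f I n)).objPreimage W) n
  let e : ∀ n, (FEt.restrict (CohB1.thickTrans f I n)).obj (Ys (n + 1)) ≅ Ys n := fun n =>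
    (FEt.restrict (CohB1.thickTrans f I n)).objObjPreimageIso (Ys n)
  let Y : ℕ → Scheme.{u} := fun n => (Ys n).left
  let y : ∀ n, Y n ⟶ CohB1.thick f I n := fun n => (Ys n).hom
  let el : ∀ n, pullback (y (n + 1)) (CohB1.thickTrans f I n) ≅ Y n := fun n =>
    (MorphismProperty.Over.forget FEt.prop ⊤ _ ⋙ CategoryTheory.Over.forget _).mapIso (e n)
  have hel : ∀ n, (el n).inv ≫ pullback.snd (y (n + 1)) (CohB1.thickTrans f I n) = y n := fun n =>
    MorphismProperty.Over.w (e n).inv
  let t : ∀ n, Y n ⟶ Y (n + 1) := fun n => (el n).inv ≫ pullback.fst (y (n + 1)) (CohB1.thickTrans f I n)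
  have ht : ∀ n, IsPullback (t n) (y n) (y (n + 1)) (CohB1.thickTrans f I n) := fun n => by
    refine IsPullback.of_iso_pullback ⟨?_⟩ (el n).symm rfl (hel n)
    rw [← hel n, Category.assoc, Category.assoc, pullback.condition]
  have hy : ∀ n, IsFinite (y n) := fun n => (Ys n).prop.1
  haveI := hy 0
  haveI : IsProper (CohB1.thickToBase f I 0) := MorphismProperty.pullback_snd _ _ ‹IsProper f›
  obtain ⟨W, i, w, hi, hpr, -, hw⟩ := Groth.Agent.S0041.result A I f Y y t hy ht inferInstance
  haveI : IsLocallyNoetherian X := LocallyOfFiniteType.isLocallyNoetherian f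
  haveI : LocallyOfFinitePresentation i :=
    LocallyOfFinitePresentation.iff_locallyOfFiniteType.mpr inferInstance
  letI : X.Over (Spec (CommRingCat.of A)) := ⟨f⟩
  let J := FormalCohLib.idSheaf (X := X) I
  have hker : ∀ n, (CohB1.thickι f I n).ker = J ^ (n + 1) := fun n => FormalCohLib.ker_thickι (X := X) I n
  have hJ : ∀ n : ℕ, Etale (pullback.snd i (J ^ (n + 1)).subschemeι) := fun n => by
    haveI := isClosedImmersion_thickι I f n
    haveI : Etale (y n) := (Ys n).prop.2
    let c := IsClosedImmersion.lift (CohB1.thickι f I n) (J ^ (n + 1)).subschemeι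
      (by rw [Scheme.IdealSheafData.ker_subschemeι, hker])
    have hc : c ≫ CohB1.thickι f I n = (J ^ (n + 1)).subschemeι := IsClosedImmersion.lift_fac _ _ _
    haveI : Etale (pullback.snd i (CohB1.thickι f I n)) := by
      rw [← (hw n).isoPullback_inv_snd]
      infer_instance
    let c' : pullback i (J ^ (n + 1)).subschemeι ⟶ pullback i (CohB1.thickι f I n) :=
      pullback.lift (pullback.fst _ _) (pullback.snd _ _ ≫ c) (by rw [Category.assoc, hc, pullback.condition])
    have hp : IsPullback c' (pullback.snd i (J ^ (n + 1)).subschemeι) (pullback.snd i (CohB1.thickι f I n)) c := by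
      refine IsPullback.of_right ?_ (pullback.lift_snd _ _ _) (IsPullback.of_hasPullback i (CohB1.thickι f I n))
      rw [pullback.lift_fst, hc]
      exact IsPullback.of_hasPullback _ _
    exact MorphismProperty.of_isPullback hp ‹Etale (pullback.snd i (CohB1.thickι f I n))›
  have het : Etale i := by
    refine IsZariskiLocalAtSource.of_iSup_eq_top (fun U : {U : W.Opens // Etale (U.ι ≫ i)} => U.1) ?_ fun U => U.2
    by_contra hne
    have hne' : (((⨆ U : {U : W.Opens // Etale (U.ι ≫ i)}, U.1) : W.Opens) : Set W)ᶜ.Nonempty :=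
      Set.nonempty_compl.2 fun h => hne (TopologicalSpace.Opens.ext h)
    haveI : CompactSpace W := QuasiCompact.compactSpace_of_compactSpace (i ≫ f)
    obtain ⟨x, hx, hxc⟩ := IsClosed.exists_closed_singleton
      (TopologicalSpace.Opens.isOpen _).isClosed_compl hne'
    have hsupp : i x ∈ (J ^ (0 + 1)).support := by
      rw [← hker 0]
      refine (Scheme.Hom.support_ker (CohB1.thickι f I 0)).ge (subset_closure ?_)
      refine (Scheme.Pullback.range_fst f (CohB1.specQuot I 0)).ge ?_
      rw [Set.mem_preimage, range_specQuot]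
      refine (PrimeSpectrum.mem_zeroLocus _ _).2 ?_
      exact fun a ha => FormalCohLib.mem_asIdeal_of_isClosed I (i ≫ f) hxc ha
    rw [zero_add, pow_one] at hsupp
    obtain ⟨U, hxU, hU⟩ := Groth.Agent.S1360.result i J hJ x hsupp
    exact hx (TopologicalSpace.Opens.mem_iSup.2 ⟨⟨U, hU⟩, hxU⟩)
  let Wc : FEt.Cat X := MorphismProperty.Over.mk ⊤ i ⟨hi, het⟩
  exact ⟨Wc, ⟨MorphismProperty.Over.isoMk (hw 0).isoPullback.symm (hw 0).isoPullback_inv_snd⟩⟩

end PiSep

end
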