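import Groth.Agent.PiSepLib.Main
import Groth.Agent.EtShLib.SplitFinite

/-! # Sections over `X_k̄` descend to finite separable extensions -/

set_option autoImplicit false
set_option linter.style.haveILetI false

universe u

open CategoryTheory CategoryTheory.Limits AlgebraicGeometry TopologicalSpace

noncomputable section

namespace PiSep

variable (k : Type u) [Field k] {X : Scheme.{u}} (f : X ⟶ Spec (CommRingCat.of k))

theorem section_sep (U : FEt.Cat X) (s : pullback f (sp k (AlgebraicClosure k)) ⟶ U.left)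
    (hs : s ≫ U.hom = pullback.fst _ _) :
    ∃ τ : pullback f (sp k (separableClosure k (AlgebraicClosure k))) ⟶ U.left,
      τ ≫ U.hom = pullback.fst _ _ ∧ toSep k f ≫ τ = s := by
  haveI := isEquivalence k f
  let fs := pullback.fst f (sp k (separableClosure k (AlgebraicClosure k)))
  let one : FEt.Cat (pullback f (sp k (separableClosure k (AlgebraicClosure k)))) :=
    MorphismProperty.Over.mk ⊤ (𝟙 _) ⟨inferInstance, inferInstance⟩
  let Us := (FEt.restrict fs).obj U
  let q := pullback.snd (𝟙 (pullback f (sp k (separableClosure k (AlgebraicClosure k))))) (toSep k f)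
  let a0 : pullback (𝟙 (pullback f (sp k (separableClosure k (AlgebraicClosure k))))) (toSep k f) ⟶
      pullback (pullback.snd U.hom fs) (toSep k f) :=
    pullback.lift (pullback.lift (q ≫ s) (q ≫ toSep k f)
      (by rw [Category.assoc, hs, Category.assoc, toSep_fst])) q (pullback.lift_snd _ _ _)
  let a : (FEt.restrict (toSep k f)).obj one ⟶ (FEt.restrict (toSep k f)).obj Us :=
    MorphismProperty.Over.homMk a0 (pullback.lift_snd _ _ _)
  let b := (FEt.restrict (toSep k f)).preimage a
  let bl : pullback f (sp k (separableClosure k (AlgebraicClosure k))) ⟶ pullback U.hom fs := b.left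
  have hbl : bl ≫ pullback.snd U.hom fs = 𝟙 _ := MorphismProperty.Over.w b
  have hb : a0 ≫ pullback.fst (pullback.snd U.hom fs) (toSep k f) =
      pullback.fst (𝟙 _) (toSep k f) ≫ bl :=
    (congrArg (fun m => m.left ≫ pullback.fst (pullback.snd U.hom fs) (toSep k f))
      ((FEt.restrict (toSep k f)).map_preimage a).symm).trans (pullback.lift_fst _ _ _)
  haveI : IsIso q := inferInstance
  refine ⟨bl ≫ pullback.fst U.hom fs, ?_, ?_⟩
  · rw [Category.assoc, pullback.condition, ← Category.assoc, hbl, Category.id_comp]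
  · rw [← cancel_epi q]
    have h2 : a0 ≫ pullback.fst (pullback.snd U.hom fs) (toSep k f) ≫ pullback.fst U.hom fs = q ≫ s := by
      rw [← Category.assoc]
      simp only [a0, pullback.lift_fst]
    rw [← Category.assoc a0, hb] at h2
    rw [← h2]
    have h3 : pullback.fst (𝟙 (pullback f (sp k (separableClosure k (AlgebraicClosure k))))) (toSep k f) =
        q ≫ toSep k f := (Category.comp_id _).symm.trans pullback.condition
    rw [h3, Category.assoc, Category.assoc]

theorem exists_stage_sections [CompactSpace X] [QuasiSeparatedSpace X] (U : FEt.Cat X) {ι : Type u} [Finite ι]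
    (τ : ι → (pullback f (sp k (separableClosure k (AlgebraicClosure k))) ⟶ U.left))
    (hτ : ∀ m, τ m ≫ U.hom = pullback.fst _ _) :
    ∃ (L : IntermediateField k (separableClosure k (AlgebraicClosure k))) (_ : FiniteDimensional k L)
      (t : ι → (pullback f (sp k L) ⟶ U.left))
      (π : pullback f (sp k (separableClosure k (AlgebraicClosure k))) ⟶ pullback f (sp k L)),
      (∀ m, t m ≫ U.hom = pullback.fst _ _) ∧ ∀ m, π ≫ t m = τ m := by
  let K := separableClosure k (AlgebraicClosure k)
  haveI : LocallyOfFinitePresentation U.hom := by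
    haveI : Etale U.hom := U.prop.2
    infer_instance
  let A := ConsLib.fgSys k K (Iso.refl (Spec (CommRingCat.of k)))
  let B := RichLib.LimBC.pb A f
  haveI : ∀ i j (b : i ⟶ j), IsAffineHom (B.D.map b) := fun _ _ b => B.affine_map b
  haveI : ∀ i, CompactSpace (B.D.obj i) := fun i => B.compactSpace_obj i
  haveI : ∀ i, QuasiSeparatedSpace (B.D.obj i) := fun i => B.quasiSeparatedSpace_obj i
  let e0 : pullback f (sp k K) ≅ B.c.pt := (pullback.congrHom rfl (Category.comp_id _)).symm
  have u1 : e0.hom ≫ pullback.fst f A.s = pullback.fst f _ := by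
    show (pullback.congrHom rfl (Category.comp_id _)).inv ≫ _ = _
    rw [Iso.inv_comp_eq]; exact ((pullback.lift_fst _ _ _).trans (Category.comp_id _)).symm
  let nt : B.D ⟶ (Functor.const _).obj X :=
    { app := fun i => B.t i
      naturality := fun i j a => (B.w a).trans (Category.comp_id _).symm }
  have h : ∀ m, ∃ (i : (ConsLib.FGSub k K)ᵒᵖ) (g : B.D.obj i ⟶ U.left),
      B.c.π.app i ≫ g = e0.inv ≫ τ m ∧ g ≫ U.hom = B.t i := fun m =>
    Scheme.exists_π_app_comp_eq_of_locallyOfFinitePresentation B.D nt U.hom B.c B.hc (e0.inv ≫ τ m) (by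
      ext i
      show B.c.π.app i ≫ B.t i = (e0.inv ≫ τ m) ≫ U.hom
      rw [B.hs i, Category.assoc, hτ]
      exact (Iso.eq_inv_comp e0).mpr u1)
  choose i g hg hg' using h
  haveI := Fintype.ofFinite ι
  classical
  obtain ⟨j, hj⟩ := IsCofiltered.inf_objs_exists (Finset.univ.image i)
  let φ : ∀ m, j ⟶ i m := fun m => (hj (Finset.mem_image_of_mem i (Finset.mem_univ m))).some
  let L : IntermediateField k K := j.unop.1.toIntermediateField' (Subalgebra.isField_of_algebraic _)
  haveI hfinL : FiniteDimensional k L := by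
    haveI : Algebra.FiniteType k j.unop.1 := ⟨(Subalgebra.fg_top _).mpr j.unop.2⟩
    haveI : Algebra.IsAlgebraic k j.unop.1 := Algebra.IsAlgebraic.of_injective j.unop.1.val Subtype.val_injective
    haveI : Algebra.IsIntegral k j.unop.1 := Algebra.IsAlgebraic.isIntegral
    exact (Algebra.IsIntegral.finite : Module.Finite k j.unop.1)
  let w : pullback f (sp k L) ≅ B.D.obj j :=
    pullback.congrHom rfl (show sp k L = A.t j from (Category.comp_id _).symm)
  have t1 : w.hom ≫ B.t j = pullback.fst f (sp k L) :=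
    (pullback.lift_fst _ _ _).trans (Category.comp_id _)
  refine ⟨L, hfinL, fun m => w.hom ≫ B.D.map (φ m) ≫ g m, e0.hom ≫ B.c.π.app j ≫ w.inv, fun m => ?_, fun m => ?_⟩
  · rw [Category.assoc, Category.assoc, hg', B.w, t1]
  · rw [Category.assoc, Category.assoc, Iso.inv_hom_id_assoc, ← Category.assoc (B.c.π.app j), B.c.w, hg,
      Iso.hom_inv_id_assoc]

/-- Sections over `X_k̄` covering `U` give a surjection onto `U` from a cover coming from `k`. -/
theorem exists_dominating [CompactSpace X] [QuasiSeparatedSpace X] (U : FEt.Cat X) {ι : Type u} [Finite ι]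
    (s : ι → (pullback f (sp k (AlgebraicClosure k)) ⟶ U.left)) (hs : ∀ m, s m ≫ U.hom = pullback.fst _ _)
    (hcov : ∀ u, ∃ m, u ∈ Set.range (s m)) :
    ∃ (V : FEt.Cat (Spec (CommRingCat.of k))) (e : (FEt.restrict f).obj V ⟶ U), Surjective e.left := by
  choose τ hτ hτ' using fun m => section_sep k f U (s m) (hs m)
  obtain ⟨L, _, t, π, ht, hπ⟩ := exists_stage_sections k f U τ hτ
  obtain ⟨_, _⟩ := etale_finite_separable k L
  let T : ι → Scheme.{u} := fun _ => Spec (CommRingCat.of L)
  let q : (∐ T) ⟶ Spec (CommRingCat.of k) := Sigma.desc fun _ => sp k L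
  have hq : q = Sigma.desc (fun _ : ι => 𝟙 (Spec (CommRingCat.of L))) ≫ sp k L :=
    Sigma.hom_ext _ _ fun i => by
      rw [Sigma.ι_desc, ← Category.assoc]
      exact ((congrArg (· ≫ sp k L) (Sigma.ι_desc (fun _ : ι => 𝟙 (Spec (CommRingCat.of L))) i)).trans (Category.id_comp _)).symm
  haveI := Groth.Agent.EtShLib.isFinite_fold (κ := ι) (Spec (CommRingCat.of L))
  haveI : Etale (Sigma.desc fun _ : ι => 𝟙 (Spec (CommRingCat.of L))) :=
    IsZariskiLocalAtSource.sigmaDesc fun _ => inferInstance
  haveI : IsFinite q := hq ▸ inferInstance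
  haveI : Etale q := hq ▸ inferInstance
  let V : FEt.Cat (Spec (CommRingCat.of k)) := MorphismProperty.Over.mk ⊤ q ⟨inferInstance, inferInstance⟩
  let a : ι → (pullback f (sp k L) ⟶ pullback q f) := fun m =>
    pullback.lift (pullback.snd _ _ ≫ Sigma.ι T m) (pullback.fst _ _)
      (by rw [Category.assoc, Sigma.ι_desc, pullback.condition])
  have ha : ∀ m, IsPullback (a m) (pullback.snd f (sp k L)) (pullback.fst q f) (Sigma.ι T m) := fun m =>
    IsPullback.of_right (by
      rw [show a m ≫ pullback.snd q f = pullback.fst f (sp k L) from pullback.lift_snd _ _ _, Sigma.ι_desc]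
      exact IsPullback.of_hasPullback f (sp k L))
      (pullback.lift_fst _ _ _) (IsPullback.of_hasPullback q f).flip
  haveI : ∀ m, IsOpenImmersion (a m) := fun m =>
    MorphismProperty.of_isPullback (P := @IsOpenImmersion) (ha m).flip inferInstance
  have hr : ∀ m, Set.range (a m) = pullback.fst q f ⁻¹' Set.range (Sigma.ι T m) := fun m => by
    have := Scheme.image_preimage_eq_of_isPullback (ha m).flip Set.univ
    simpa [Set.image_univ] using this
  obtain ⟨hcol⟩ := nonempty_isColimit_cofanMk_of a (top_le_iff.mp fun z _ => by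
    obtain ⟨m, y, hy⟩ := (sigmaOpenCover T).exists_eq (pullback.fst q f z)
    exact Opens.mem_iSup.mpr ⟨m, by
      show z ∈ Set.range (a m)
      rw [hr]; exact ⟨y, hy⟩⟩) (by
    intro i j hij
    refine disjoint_iff_inf_le.mpr fun z hz => ?_
    have h1 : z ∈ Set.range (a i) := hz.1
    have h2 : z ∈ Set.range (a j) := hz.2
    rw [hr] at h1 h2
    exact (disjoint_opensRange_sigmaι T i j hij).le_bot ⟨h1, h2⟩)
  let el : pullback q f ⟶ U.left := Cofan.IsColimit.desc hcol t
  have hel : ∀ m, a m ≫ el = t m := fun m => Cofan.IsColimit.fac hcol t m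
  refine ⟨V, MorphismProperty.Over.homMk el (Cofan.IsColimit.hom_ext hcol _ _ fun m => ?_), ⟨fun u => ?_⟩⟩
  · exact ((Category.assoc _ _ _).symm.trans ((congrArg (· ≫ U.hom) (hel m)).trans (ht m))).trans
      (pullback.lift_snd _ _ _).symm
  · obtain ⟨m, x, rfl⟩ := hcov u
    refine ⟨a m (π (toSep k f x)), ?_⟩
    show el _ = _
    rw [← Scheme.Hom.comp_apply, hel, ← Scheme.Hom.comp_apply, hπ, ← Scheme.Hom.comp_apply, hτ']

end PiSep

end
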