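import Groth.Agent.PiSepLib.GalImage
import Groth.Agent.PiSepLib.Sections
import Groth.Agent.ClopenFFLib.Henselian
import Groth.Agent.EtLocLib.Henselian
import Groth.Agent.S0239
import Groth.Agent.S5129

/-! # The homotopy sequence over complete local rings -/

set_option autoImplicit false
set_option linter.style.haveILetI false

universe u

open CategoryTheory CategoryTheory.Limits AlgebraicGeometry TopologicalSpace IsLocalRing

noncomputable section

namespace PiSep

variable (A : Type u) [CommRing A] [HenselianLocalRing A]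

/-- The closed point of `Spec A`. -/
abbrev rk : Spec (CommRingCat.of (ResidueField A)) ⟶ Spec (CommRingCat.of A) :=
  Spec.map (CommRingCat.ofHom (residue A))

theorem clopenBij_closedFibre {X : Scheme.{u}} (f : X ⟶ Spec (CommRingCat.of A)) [IsProper f] :
    ClopenFFLib.ClopenBij (pullback.fst f (rk A)) := by
  intro Y C'
  haveI : IsClosedImmersion (rk A) := IsClosedImmersion.spec_of_surjective _ residue_surjective
  haveI : IsFinite Y.hom := Y.prop.1
  let Yl : Scheme.{u} := Y.left
  let h : Yl ⟶ X := Y.hom
  haveI : IsFinite h := Y.prop.1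
  haveI : IsClosedImmersion (pullback.fst f (rk A)) := MorphismProperty.pullback_fst f _ ‹IsClosedImmersion (rk A)›
  haveI : IsClosedImmersion (pullback.fst h (pullback.fst f (rk A))) := MorphismProperty.pullback_fst h _ inferInstance
  haveI : IsClosedImmersion (pullback.fst (h ≫ f) (rk A)) := MorphismProperty.pullback_fst _ _ ‹IsClosedImmersion (rk A)›
  have hP : ProperClopenLib.Lifts (pullback.fst h (pullback.fst f (rk A))).base :=
    (ProperClopenLib.lifts_fst (h ≫ f) (maximalIdeal A)).congr_range
      (pullback.fst (h ≫ f) (rk A)).isEmbedding (pullback.fst h (pullback.fst f (rk A))).isEmbedding (by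
        show Set.range (pullback.fst (h ≫ f) (rk A)) = Set.range (pullback.fst h (pullback.fst f (rk A)))
        rw [Scheme.Pullback.range_fst, Scheme.Pullback.range_fst, Scheme.Pullback.range_fst,
          ← Set.preimage_comp]
        rfl)
  obtain ⟨C, ⟨hC, hCC⟩, hu⟩ := hP (C' : Set ↥(pullback h (pullback.fst f (rk A)))) C'.isClopen
  exact ⟨⟨C, hC⟩, hCC, fun C₂ hC₂ => SetLike.coe_injective (hu _ ⟨C₂.isClopen, hC₂⟩)⟩

theorem connectedSpace_closedFibre {X : Scheme.{u}} (f : X ⟶ Spec (CommRingCat.of A)) [IsProper f]
    [ConnectedSpace X] : ConnectedSpace ↥(pullback f (rk A)) := by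
  haveI : IsClosedImmersion (rk A) := IsClosedImmersion.spec_of_surjective _ residue_surjective
  have hP := ProperClopenLib.lifts_fst f (maximalIdeal A)
  change ProperClopenLib.Lifts (pullback.fst f (rk A)).base at hP
  haveI : Nonempty ↥(pullback f (rk A)) := by
    by_contra hne
    haveI := not_nonempty_iff.1 hne
    obtain ⟨U, -, hu⟩ := hP ∅ isClopen_empty
    have h1 := hu ∅ ⟨isClopen_empty, Set.preimage_empty⟩
    have h2 := hu Set.univ ⟨isClopen_univ, Set.eq_empty_of_isEmpty _⟩
    exact (Set.empty_ne_univ (α := X)) (h1.trans h2.symm)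
  haveI : PreconnectedSpace ↥(pullback f (rk A)) := by
    refine preconnectedSpace_iff_clopen.2 fun V hV => ?_
    obtain ⟨U, ⟨hU, hUV⟩, -⟩ := hP V hV
    rcases isClopen_iff.1 hU with h | h
    · exact Or.inl (by rw [← hUV, h, Set.preimage_empty])
    · exact Or.inr (by rw [← hUV, h, Set.preimage_univ])
  exact ⟨inferInstance⟩

theorem connectedSpace_of_closedFibre {X : Scheme.{u}} (f : X ⟶ Spec (CommRingCat.of A)) [IsProper f]
    [ConnectedSpace ↥(pullback f (rk A))] : ConnectedSpace X := by
  haveI : IsClosedImmersion (rk A) := IsClosedImmersion.spec_of_surjective _ residue_surjective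
  have hP := ProperClopenLib.lifts_fst f (maximalIdeal A)
  change ProperClopenLib.Lifts (pullback.fst f (rk A)).base at hP
  haveI : Nonempty X := ⟨pullback.fst f (rk A) (Classical.arbitrary _)⟩
  haveI : PreconnectedSpace X := by
    refine preconnectedSpace_iff_clopen.2 fun U hU => ?_
    rcases isClopen_iff.1 (hU.preimage (pullback.fst f (rk A)).continuous) with h | h
    · obtain ⟨V, -, hu⟩ := hP ∅ isClopen_empty
      exact Or.inl ((hu U ⟨hU, h⟩).trans (hu ∅ ⟨isClopen_empty, Set.preimage_empty⟩).symm)
    · obtain ⟨V, -, hu⟩ := hP Set.univ isClopen_univ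
      exact Or.inr ((hu U ⟨hU, h⟩).trans (hu Set.univ ⟨isClopen_univ, Set.preimage_univ⟩).symm)
  exact ⟨inferInstance⟩

theorem connectedSpace_spec_local : ConnectedSpace ↥(Spec (CommRingCat.of A)) := by
  haveI : Nonempty ↥(Spec (CommRingCat.of A)) := ⟨closedPoint A⟩
  haveI : PreconnectedSpace ↥(Spec (CommRingCat.of A)) := by
    refine preconnectedSpace_iff_clopen.2 fun U hU => ?_
    by_cases h : closedPoint A ∈ U
    · exact Or.inr (Set.eq_univ_of_forall fun x => (specializes_closedPoint x).mem_open hU.2 h)
    · exact Or.inl (Set.eq_empty_of_forall_notMem fun x hx => h ((specializes_closedPoint x).mem_closed hU.1 hx))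
  exact ⟨inferInstance⟩

theorem exists_iso_restrict_of_section {X : Scheme.{u}} (f : X ⟶ Spec (CommRingCat.of A)) [IsProper f]
    [ConnectedSpace ↥(pullback (pullback.snd f (rk A)) (sp (ResidueField A) (AlgebraicClosure (ResidueField A))))]
    (hff : (FEt.restrict f).Full ∧ (FEt.restrict f).Faithful) (X' : FEt.Cat X) [ConnectedSpace X'.left]
    (σ : pullback (pullback.snd f (rk A)) (sp (ResidueField A) (AlgebraicClosure (ResidueField A))) ⟶ X'.left)
    (hσ : σ ≫ X'.hom = pullback.fst _ _ ≫ pullback.fst f (rk A)) :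
    ∃ T : FEt.Cat (Spec (CommRingCat.of A)), Nonempty ((FEt.restrict f).obj T ≅ X') := by
  let k := ResidueField A
  let i := pullback.fst f (rk A)
  let f₀ := pullback.snd f (rk A)
  haveI : IsClosedImmersion (rk A) := IsClosedImmersion.spec_of_surjective _ residue_surjective
  haveI : IsProper f₀ := MorphismProperty.pullback_snd _ _ ‹IsProper f›
  haveI : CompactSpace ↥(pullback f (rk A)) := QuasiCompact.compactSpace_of_compactSpace f₀
  haveI : QuasiSeparatedSpace ↥(pullback f (rk A)) := quasiSeparatedSpace_of_quasiSeparated f₀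
  haveI : ConnectedSpace ↥(pullback f (rk A)) := by
    haveI : Surjective (sp k (AlgebraicClosure k)) := ⟨fun p => ⟨Classical.arbitrary (PrimeSpectrum (AlgebraicClosure k)),
      Subsingleton.elim (α := PrimeSpectrum k) _ _⟩⟩
    haveI : Surjective (pullback.fst f₀ (sp k (AlgebraicClosure k))) := MorphismProperty.pullback_fst _ _ ‹_›
    exact (pullback.fst f₀ (sp k (AlgebraicClosure k))).surjective.connectedSpace (Scheme.Hom.continuous _)
  haveI := connectedSpace_of_closedFibre A f
  haveI := connectedSpace_spec_local A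
  let U := (FEt.restrict i).obj X'
  let s : pullback f₀ (sp k (AlgebraicClosure k)) ⟶ U.left := pullback.lift σ (pullback.fst _ _) hσ
  obtain ⟨τ, hτ, -⟩ := section_sep k f₀ U s (pullback.lift_snd _ _ _)
  obtain ⟨L, _, t, π, ht, -⟩ := exists_stage_sections k f₀ U (ι := PUnit.{u+1}) (fun _ => τ) (fun _ => hτ)
  obtain ⟨_, _⟩ := etale_finite_separable k L
  haveI hE : (FEt.restrict (rk A)).IsEquivalence := Groth.Agent.S0239.result A (maximalIdeal A)
  let T0 : FEt.Cat (Spec (CommRingCat.of k)) := MorphismProperty.Over.mk ⊤ (sp k L) ⟨inferInstance, inferInstance⟩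
  let T := (FEt.restrict (rk A)).objPreimage T0
  let e0 := (FEt.restrict (rk A)).objObjPreimageIso T0
  let Tl : Scheme.{u} := T.left
  let th : Tl ⟶ Spec (CommRingCat.of A) := T.hom
  let el : pullback th (rk A) ⟶ Spec (CommRingCat.of L) := e0.hom.left
  let ei : Spec (CommRingCat.of L) ⟶ pullback th (rk A) := e0.inv.left
  have hel : el ≫ sp k L = pullback.snd th (rk A) := MorphismProperty.Over.w e0.hom
  have hei : ei ≫ pullback.snd th (rk A) = sp k L := MorphismProperty.Over.w e0.inv
  haveI := ClopenFFLib.full i (clopenBij_closedFibre A f)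
  let W0 := pullback (pullback.snd th f) i
  let g : W0 ⟶ pullback th (rk A) := pullback.lift (pullback.fst _ _ ≫ pullback.fst th f) (pullback.snd _ _ ≫ f₀)
    (by rw [Category.assoc, pullback.condition, ← Category.assoc, pullback.condition, Category.assoc, Category.assoc,
      ← pullback.condition])
  let b : W0 ⟶ pullback f₀ (sp k L) := pullback.lift (pullback.snd _ _) (g ≫ el)
    (by rw [Category.assoc, hel, pullback.lift_snd])
  let ψ : (FEt.restrict i).obj ((FEt.restrict f).obj T) ⟶ (FEt.restrict i).obj X' :=
    MorphismProperty.Over.homMk (b ≫ t PUnit.unit) (by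
      show (b ≫ t PUnit.unit) ≫ U.hom = pullback.snd (pullback.snd th f) i
      rw [Category.assoc, ht, pullback.lift_fst])
  haveI : Nonempty ((FEt.restrict f).obj T).left := by
    obtain ⟨p⟩ : Nonempty ↥(pullback f₀ (sp k (AlgebraicClosure k))) := inferInstance
    let m : pullback f₀ (sp k L) ⟶ pullback th f := pullback.lift (pullback.snd _ _ ≫ ei ≫ pullback.fst _ _)
      (pullback.fst _ _ ≫ i) (by
        simp only [Category.assoc]
        rw [pullback.condition (f := th) (g := rk A), ← Category.assoc ei, hei, pullback.condition (f := f) (g := rk A),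
          ← Category.assoc, ← Category.assoc (pullback.fst f₀ (sp k L)), pullback.condition])
    exact ⟨m (π (toSep k f₀ p))⟩
  exact essImage_of_hom f hff X' T ((FEt.restrict i).preimage ψ)

end PiSep

end
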