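import Groth.Agent.PiSepLib.EssSurj
import Groth.Agent.PiSepLib.Complete

/-! # Covers of the geometric special fibre over complete rings -/

set_option autoImplicit false
set_option linter.style.haveILetI false

universe u

open CategoryTheory CategoryTheory.Limits AlgebraicGeometry IsLocalRing

noncomputable section

namespace PiSep

variable (A : Type u) [CommRing A] [IsNoetherianRing A] [IsLocalRing A] [IsAdicComplete (maximalIdeal A) A]
  {X : Scheme.{u}} (f : X ⟶ Spec (CommRingCat.of A)) [IsProper f] [HenselianLocalRing A]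

theorem exists_lift_closedFibre (V : FEt.Cat (pullback f (rk A))) :
    ∃ U : FEt.Cat X, Nonempty ((FEt.restrict (pullback.fst f (rk A))).obj U ≅ V) := by
  let φ : A ⧸ maximalIdeal A ^ (0 + 1) ≃+* ResidueField A :=
    Ideal.quotEquivOfEq (by rw [zero_add, pow_one])
  let e : Spec (CommRingCat.of (ResidueField A)) ⟶ Spec (CommRingCat.of (A ⧸ maximalIdeal A ^ (0 + 1))) :=
    Spec.map φ.toCommRingCatIso.hom
  haveI : IsIso e := inferInstance
  have he : e ≫ CohB1.specQuot (maximalIdeal A) 0 = rk A := by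
    rw [show CohB1.specQuot (maximalIdeal A) 0 =
      Spec.map (CommRingCat.ofHom (Ideal.Quotient.mk (maximalIdeal A ^ (0 + 1)))) from rfl, ← Spec.map_comp]
    rfl
  let c : pullback f (rk A) ⟶ CohB1.thick f (maximalIdeal A) 0 :=
    pullback.map f (rk A) f (CohB1.specQuot (maximalIdeal A) 0) (𝟙 _) e (𝟙 _) (by simp) (by rw [Category.comp_id, he])
  have hc : c ≫ CohB1.thickι f (maximalIdeal A) 0 = pullback.fst f (rk A) :=
    (pullback.lift_fst _ _ _).trans (Category.comp_id _)
  haveI : IsIso c := inferInstanceAs (IsIso (pullback.map f (rk A) f (CohB1.specQuot (maximalIdeal A) 0) _ _ _ _ _))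
  haveI : IsFinite V.hom := V.prop.1
  haveI : Etale V.hom := V.prop.2
  let Vl : Scheme.{u} := V.left
  let v : Vl ⟶ pullback f (rk A) := V.hom
  haveI : IsFinite v := V.prop.1
  haveI : Etale v := V.prop.2
  let V' : FEt.Cat (CohB1.thick f (maximalIdeal A) 0) :=
    MorphismProperty.Over.mk ⊤ (v ≫ c) ⟨(inferInstance : IsFinite (v ≫ c)), (inferInstance : Etale (v ≫ c))⟩
  haveI := essSurj_thick (maximalIdeal A) f
  let U := (FEt.restrict (CohB1.thickι f (maximalIdeal A) 0)).objPreimage V'
  let eU := (FEt.restrict (CohB1.thickι f (maximalIdeal A) 0)).objObjPreimageIso V'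
  let Ul : Scheme.{u} := U.left
  let u : Ul ⟶ X := U.hom
  let el : pullback u (CohB1.thickι f (maximalIdeal A) 0) ≅ Vl :=
    (MorphismProperty.Over.forget FEt.prop ⊤ _ ⋙ CategoryTheory.Over.forget _).mapIso eU
  have hel : el.inv ≫ pullback.snd u (CohB1.thickι f (maximalIdeal A) 0) = v ≫ c :=
    MorphismProperty.Over.w eU.inv
  have h1 : IsPullback (el.inv ≫ pullback.fst u (CohB1.thickι f (maximalIdeal A) 0)) (v ≫ c) u
      (CohB1.thickι f (maximalIdeal A) 0) := by
    refine IsPullback.of_iso_pullback ⟨?_⟩ el.symm rfl hel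
    rw [← hel, Category.assoc, Category.assoc, pullback.condition]
  have h2 : IsPullback (el.inv ≫ pullback.fst u (CohB1.thickι f (maximalIdeal A) 0)) v u (pullback.fst f (rk A)) :=
    h1.of_iso (Iso.refl _) (Iso.refl _) (asIso c).symm (Iso.refl _) (by simp) (by simp) (by simp)
      (by simp [hc])
  exact ⟨U, ⟨MorphismProperty.Over.isoMk h2.isoPullback.symm h2.isoPullback_inv_snd⟩⟩

theorem exists_openClosed_in_restrict (ξ : Spec (CommRingCat.of (AlgebraicClosure (ResidueField A))) ⟶ Spec (CommRingCat.of A))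
    (hξ : ξ = sp (ResidueField A) (AlgebraicClosure (ResidueField A)) ≫ rk A)
    [ConnectedSpace ↥(pullback f ξ)] (V : FEt.Cat (pullback f ξ)) :
    ∃ (U : FEt.Cat X) (ι : V ⟶ (FEt.restrict (pullback.fst f ξ)).obj U),
      IsOpenImmersion ι.left ∧ IsClosedImmersion ι.left := by
  let Vl : Scheme.{u} := V.left
  let v : Vl ⟶ pullback f ξ := V.hom
  haveI : IsFinite v := V.prop.1
  haveI : Etale v := V.prop.2
  suffices H : ∃ (U : FEt.Cat X) (m : Vl ⟶ U.left), m ≫ U.hom = v ≫ pullback.fst f ξ ∧
      ∀ {W : Scheme.{u}} (a b : W ⟶ Vl), a ≫ m = b ≫ m → a ≫ v = b ≫ v → a = b by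
    obtain ⟨U, m, hm, hmono⟩ := H
    let Ul : Scheme.{u} := U.left
    let u : Ul ⟶ X := U.hom
    haveI : IsFinite u := U.prop.1
    haveI : Etale u := U.prop.2
    let il : Vl ⟶ pullback u (pullback.fst f ξ) := pullback.lift m v hm
    have hil : il ≫ pullback.snd u (pullback.fst f ξ) = v := pullback.lift_snd _ _ _
    refine ⟨U, MorphismProperty.Over.homMk il hil, ?_⟩
    have hil1 : il ≫ pullback.fst u (pullback.fst f ξ) = m := pullback.lift_fst _ _ _
    haveI : Mono il := ⟨fun a b hab => hmono a b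
      (by rw [← hil1, ← Category.assoc, ← Category.assoc, hab])
      (by rw [← hil, ← Category.assoc, ← Category.assoc, hab])⟩
    haveI : IsFinite (pullback.snd u (pullback.fst f ξ)) := MorphismProperty.pullback_snd _ _ ‹IsFinite u›
    haveI : Etale (pullback.snd u (pullback.fst f ξ)) := MorphismProperty.pullback_snd _ _ ‹Etale u›
    haveI : IsFinite (il ≫ pullback.snd u (pullback.fst f ξ)) := by rw [hil]; infer_instance
    haveI : Etale (il ≫ pullback.snd u (pullback.fst f ξ)) := by rw [hil]; infer_instance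
    haveI : Etale il := Etale.of_comp il (pullback.snd u (pullback.fst f ξ))
    haveI : IsFinite il := IsFinite.of_comp il (pullback.snd u (pullback.fst f ξ))
    exact ⟨(IsOpenImmersion.of_flat_of_mono il : IsOpenImmersion il), (IsClosedImmersion.iff_isFinite_and_mono il).2 ⟨inferInstance, inferInstance⟩⟩
  by_cases hne : Nonempty Vl
  swap
  · haveI := not_nonempty_iff.1 hne
    haveI hi : IsInitial Vl := isInitialOfIsEmpty
    exact ⟨MorphismProperty.Over.mk ⊤ (𝟙 X) ⟨inferInstance, inferInstance⟩, hi.to _, hi.hom_ext _ _,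
      fun a b _ h => (isInitialOfIsEmpty (X := Vl)).strict_hom_ext a b⟩
  have hsurj : Surjective v := ⟨fun x => (IsClopen.eq_univ (⟨v.isClosedMap.isClosed_range, v.isOpenMap.isOpen_range⟩ :
      IsClopen (Set.range v)) (Set.range_nonempty _)).symm.subset (Set.mem_univ x)⟩
  let k := ResidueField A
  let f₀ := pullback.snd f (rk A)
  haveI : IsClosedImmersion (rk A) := IsClosedImmersion.spec_of_surjective _ residue_surjective
  haveI : IsClosedImmersion (pullback.fst f (rk A)) := MorphismProperty.pullback_fst f _ ‹IsClosedImmersion (rk A)›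
  haveI : IsProper f₀ := MorphismProperty.pullback_snd _ _ ‹IsProper f›
  haveI : CompactSpace ↥(pullback f (rk A)) := QuasiCompact.compactSpace_of_compactSpace f₀
  haveI : QuasiSeparatedSpace ↥(pullback f (rk A)) := quasiSeparatedSpace_of_quasiSeparated f₀
  have hp := (IsPullback.of_hasPullback f₀ (sp k (AlgebraicClosure k))).paste_horiz (IsPullback.of_hasPullback f (rk A))
  rw [← hξ] at hp
  let h := hp.isoPullback
  let V' : FEt.Cat (pullback f₀ (sp k (AlgebraicClosure k))) :=
    MorphismProperty.Over.mk ⊤ (v ≫ h.inv) ⟨(inferInstance : IsFinite (v ≫ h.inv)), (inferInstance : Etale (v ≫ h.inv))⟩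
  haveI := hsurj
  obtain ⟨L, _, YL, gL, _, _, π, hπ, j, hj⟩ := exists_finite_separable k f₀ V' (inferInstance : Surjective (v ≫ h.inv))
  obtain ⟨_, _⟩ := etale_finite_separable k L
  haveI : IsFinite (pullback.fst f₀ (sp k L)) := MorphismProperty.pullback_fst _ _ ‹IsFinite (sp k L)›
  haveI : Etale (pullback.fst f₀ (sp k L)) := MorphismProperty.pullback_fst _ _ ‹Etale (sp k L)›
  let U₀ : FEt.Cat (pullback f (rk A)) := MorphismProperty.Over.mk ⊤ (gL ≫ pullback.fst f₀ (sp k L))
    ⟨(inferInstance : IsFinite (gL ≫ _)), (inferInstance : Etale (gL ≫ _))⟩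
  obtain ⟨U, ⟨eU⟩⟩ := exists_lift_closedFibre A f U₀
  let Ul : Scheme.{u} := U.left
  let u : Ul ⟶ X := U.hom
  let el : pullback u (pullback.fst f (rk A)) ≅ YL :=
    (MorphismProperty.Over.forget FEt.prop ⊤ _ ⋙ CategoryTheory.Over.forget _).mapIso eU
  have hel : el.inv ≫ pullback.snd u (pullback.fst f (rk A)) = gL ≫ pullback.fst f₀ (sp k L) :=
    MorphismProperty.Over.w eU.inv
  let jl : Vl ⟶ YL := j
  have hw : jl ≫ gL = (v ≫ h.inv) ≫ π := hj.w
  refine ⟨U, jl ≫ el.inv ≫ pullback.fst u (pullback.fst f (rk A)), ?_, fun a b h1 h2 => ?_⟩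
  · show (jl ≫ el.inv ≫ pullback.fst u (pullback.fst f (rk A))) ≫ u = v ≫ pullback.fst f ξ
    simp only [Category.assoc]
    rw [pullback.condition (f := u), reassoc_of% hel, reassoc_of% hw, reassoc_of% hπ, hp.isoPullback_inv_fst]
  · haveI : Mono (pullback.fst u (pullback.fst f (rk A))) := inferInstance
    have h3 : a ≫ jl = b ≫ jl := by
      rw [← cancel_mono (el.inv ≫ pullback.fst u (pullback.fst f (rk A)))]
      simpa only [Category.assoc] using h1
    exact hj.hom_ext h3 (show a ≫ v ≫ h.inv = b ≫ v ≫ h.inv by rw [reassoc_of% h2])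

end PiSep

end
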