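import Groth.Agent.FEtColimLib.Galois
import Groth.Agent.GalFunLib.Whisker

/-! # Connected covers receiving a morphism from a pulled back cover -/

set_option autoImplicit false
set_option linter.style.haveILetI false

universe u

open CategoryTheory CategoryTheory.Limits AlgebraicGeometry

noncomputable section

namespace PiSep

open PreGaloisCategory

theorem isConnected_of_connectedSpace {X : Scheme.{u}} [ConnectedSpace X] {Ω : Type u} [Field Ω] [IsAlgClosed Ω]
    (ξ : Spec (CommRingCat.of Ω) ⟶ X) (U : FEt.Cat X) [ConnectedSpace U.left] [GaloisCategory (FEt.Cat X)]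
    [FiberFunctor (FEtColim.finFiber ξ)] : PreGaloisCategory.IsConnected U := by
  haveI : IsFinite U.hom := U.prop.1
  haveI : Etale U.hom := U.prop.2
  haveI : PreconnectedSpace ↥((Functor.fromPUnit X).obj U.right) := inferInstanceAs (PreconnectedSpace X)
  haveI : Nonempty ↥((𝟭 Scheme).obj U.left) := inferInstanceAs (Nonempty U.left)
  have hsurj : Function.Surjective U.hom := fun x =>
    (IsClopen.eq_univ (⟨U.hom.isClosedMap.isClosed_range, U.hom.isOpenMap.isOpen_range⟩ :
      IsClopen (Set.range U.hom)) (Set.range_nonempty _)).symm.subset (Set.mem_univ x)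
  have hne : Nonempty ((FEtColim.finFiber ξ).obj U) := by
    obtain ⟨u, hu⟩ := hsurj (ξ (IsLocalRing.closedPoint Ω))
    obtain ⟨p, -, -⟩ := Scheme.Pullback.exists_preimage_pullback (f := U.hom) (g := ξ) u (IsLocalRing.closedPoint Ω) hu
    obtain ⟨σ, hσ, -⟩ := FEtColim.exists_section (pullback.snd U.hom ξ) p
    exact ⟨(⟨σ ≫ pullback.fst U.hom ξ, by
      rw [Category.assoc, pullback.condition, ← Category.assoc, hσ, Category.id_comp]⟩ : FEt.fiberObj ξ U)⟩
  refine ⟨fun h => ((initial_iff_fiber_empty (FEtColim.finFiber ξ) U).1 ⟨h⟩).false hne.some,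
    fun Z i _ hZ => ?_⟩
  obtain ⟨z⟩ := (not_initial_iff_fiber_nonempty (FEtColim.finFiber ξ) Z).1 hZ
  haveI : Nonempty Z.left := ⟨(show FEt.fiberObj ξ Z from z).1 (IsLocalRing.closedPoint Ω)⟩
  haveI := FEtColim.mono_left i
  haveI := FEtColim.etale_left i
  haveI := FEtColim.isFinite_left i
  haveI : IsOpenImmersion i.left := IsOpenImmersion.of_flat_of_mono i.left
  haveI : Surjective i.left := ⟨fun u => (IsClopen.eq_univ (⟨i.left.isClosedMap.isClosed_range, i.left.isOpenMap.isOpen_range⟩ :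
      IsClopen (Set.range i.left)) (Set.range_nonempty _)).symm.subset (Set.mem_univ u)⟩
  haveI : IsIso i.left := (isIso_iff_isOpenImmersion_and_epi_base i.left).2 ⟨inferInstance, (TopCat.epi_iff_surjective _).2 i.left.surjective⟩
  haveI : IsIso ((MorphismProperty.Over.forget FEt.prop ⊤ X ⋙ CategoryTheory.Over.forget X).map i) :=
    inferInstanceAs (IsIso i.left)
  exact isIso_of_reflects_iso i (MorphismProperty.Over.forget FEt.prop ⊤ X ⋙ CategoryTheory.Over.forget X)

theorem essImage_of_hom {X S : Scheme.{u}} [ConnectedSpace X] [ConnectedSpace S] (f : X ⟶ S)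
    (hff : (FEt.restrict f).Full ∧ (FEt.restrict f).Faithful) (U : FEt.Cat X) [ConnectedSpace U.left]
    (V : FEt.Cat S) (e : (FEt.restrict f).obj V ⟶ U) [Nonempty ((FEt.restrict f).obj V).left] :
    ∃ S' : FEt.Cat S, Nonempty ((FEt.restrict f).obj S' ≅ U) := by
  obtain ⟨_, _⟩ := hff
  obtain ⟨Ω, _, _, s, -⟩ := FEtColim.exists_geomPt X (Classical.arbitrary X)
  let F := FEtColim.finFiber s
  letI := FEtColim.preGaloisCategory X
  letI := FEtColim.preGaloisCategory S
  haveI hF : FiberFunctor F := (FEtColim.fiberFunctor s).some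
  letI : GaloisCategory (FEt.Cat X) := { hasFiberFunctor := ⟨_, ⟨hF⟩⟩ }
  letI : GaloisCategory (FEt.Cat S) := { hasFiberFunctor := ⟨_, FEtColim.fiberFunctor (s ≫ f)⟩ }
  haveI := FEtColim.preservesFiniteLimits_restrict f
  haveI := FEtColim.preservesFiniteColimits_restrict f
  haveI := FEtColim.preservesFiniteLimits_finFiber s
  haveI := FEtColim.preservesFiniteColimits_finFiber s
  haveI : FiberFunctor (FEt.restrict f ⋙ F) :=
    { preservesQuotientsByFiniteGroups := fun G _ _ => by
        obtain ⟨G', _, _, ⟨eq⟩⟩ := Finite.exists_type_univ_nonempty_mulEquiv G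
        haveI : PreservesFiniteColimits (FEt.restrict f ⋙ F) := comp_preservesFiniteColimits _ _
        exact preservesColimitsOfShape_of_equiv eq.toSingleObjEquiv.symm _ }
  haveI := isConnected_of_connectedSpace s U
  obtain ⟨u0⟩ := nonempty_fiber_of_isConnected F U
  let H := FEt.restrict f
  have hu : Function.Surjective (Pi1X.autWhisker H F) :=
    GalFunLib.surjective_of_preservesConnected H F fun Y _ => GalFunLib.preservesConnected_of_full H F Y
  -- a connected component of the pulled back cover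
  have hV : Nonempty (F.obj (H.obj V)) := by
    by_contra h
    obtain ⟨hin⟩ := (initial_iff_fiber_empty F (H.obj V)).2 (not_nonempty_iff.1 h)
    let y := Classical.arbitrary ((FEt.restrict f).obj V).left
    obtain ⟨Ω', _, _, t, -⟩ := FEtColim.exists_geomPt ((FEt.restrict f).obj V).left y
    let g : Spec (CommRingCat.of Ω') ⟶ X := t ≫ ((FEt.restrict f).obj V).hom
    obtain ⟨hF'⟩ := FEtColim.fiberFunctor g
    exact ((initial_iff_fiber_empty (FEtColim.finFiber g) (H.obj V)).1 ⟨hin⟩).false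
      (⟨t, rfl⟩ : FEt.fiberObj g ((FEt.restrict f).obj V))
  obtain ⟨p⟩ := hV
  obtain ⟨Y', i, z, -, hY, hi⟩ := fiber_in_connected_component F (H.obj V) p
  have hker : (Pi1X.autWhisker H F).ker ≤ MulAction.stabilizer (Aut F) u0 :=
    (GalFunLib.ker_le_stabilizer_iff H F U u0).2 ⟨V, Y', i, i ≫ e, hi, hY⟩
  let W : Subgroup (Aut (H ⋙ F)) := (MulAction.stabilizer (Aut F) u0).map (Pi1X.autWhisker H F)
  have hWc : (Pi1X.autWhisker H F) '' (MulAction.stabilizer (Aut F) u0 : Set (Aut F))ᶜ = (W : Set (Aut (H ⋙ F)))ᶜ := by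
    apply Set.Subset.antisymm
    · rintro _ ⟨σ, hσ, rfl⟩ ⟨τ, hτ, hτσ⟩
      have hk : τ⁻¹ * σ ∈ (Pi1X.autWhisker H F).ker := by
        rw [MonoidHom.mem_ker, map_mul, map_inv, hτσ, inv_mul_cancel]
      exact hσ (by simpa using (MulAction.stabilizer (Aut F) u0).mul_mem hτ (hker hk))
    · intro x hx
      obtain ⟨σ, rfl⟩ := hu x
      exact ⟨σ, fun hσ => hx ⟨σ, hσ, rfl⟩, rfl⟩
  have hW : IsOpen (W : Set (Aut (H ⋙ F))) := by
    rw [← isClosed_compl_iff, ← hWc]
    exact ((stabilizer_isOpen (Aut F) u0).isClosed_compl.isCompact.image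
      (GalFunLib.continuous_autWhisker H F)).isClosed
  obtain ⟨S', x', hS', hx'⟩ := GalFunLib.exists_connected_stabilizer (H ⋙ F) W hW
  haveI := hS'
  haveI : PreGaloisCategory.IsConnected (H.obj S') := GalFunLib.preservesConnected_of_full H F S'
  let x : F.obj (H.obj S') := x'
  have hst : MulAction.stabilizer (Aut F) x = MulAction.stabilizer (Aut F) u0 := by
    ext σ
    have h1 : σ ∈ MulAction.stabilizer (Aut F) x ↔ Pi1X.autWhisker H F σ ∈ W := by
      rw [← hx']
      rfl
    rw [h1]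
    constructor
    · rintro ⟨τ, hτ, hτσ⟩
      have hk : τ⁻¹ * σ ∈ (Pi1X.autWhisker H F).ker := by
        rw [MonoidHom.mem_ker, map_mul, map_inv, hτσ, inv_mul_cancel]
      simpa using (MulAction.stabilizer (Aut F) u0).mul_mem hτ (hker hk)
    · exact fun h => ⟨σ, h, rfl⟩
  obtain ⟨a, ha⟩ := (GalFunLib.exists_hom_iff F x u0).2 hst.le
  obtain ⟨b, hb⟩ := (GalFunLib.exists_hom_iff F u0 x).2 hst.ge
  refine ⟨S', ⟨{ hom := a, inv := b, hom_inv_id := ?_, inv_hom_id := ?_ }⟩⟩
  · refine evaluation_injective_of_isConnected F _ _ x ?_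
    show F.map (a ≫ b) x = F.map (𝟙 _) x
    rw [F.map_comp, FintypeCat.comp_apply, ha, hb, F.map_id, FintypeCat.id_apply]
  · refine evaluation_injective_of_isConnected F _ _ u0 ?_
    show F.map (b ≫ a) u0 = F.map (𝟙 _) u0
    rw [F.map_comp, FintypeCat.comp_apply, hb, ha, F.map_id, FintypeCat.id_apply]

end PiSep

end
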