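import Groth.Agent.FEtSepLib.Main
import Groth.Agent.GeomIrrLib.Basic
import Groth.Agent.S0289

/-! # Covers of `X_k̄` descend to finite separable extensions -/

set_option autoImplicit false
set_option linter.style.haveILetI false

universe u

open CategoryTheory CategoryTheory.Limits AlgebraicGeometry

noncomputable section

namespace PiSep

variable (k : Type u) [Field k] {X : Scheme.{u}} (f : X ⟶ Spec (CommRingCat.of k))

/-- `Spec K → Spec k`. -/
abbrev sp (K : Type u) [Field K] [Algebra k K] : Spec (CommRingCat.of K) ⟶ Spec (CommRingCat.of k) :=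
  Spec.map (CommRingCat.ofHom (algebraMap k K))

/-- `X_k̄ → X_{k_s}`. -/
def toSep : pullback f (sp k (AlgebraicClosure k)) ⟶ pullback f (sp k (separableClosure k (AlgebraicClosure k))) :=
  pullback.lift (pullback.fst _ _) (pullback.snd _ _ ≫
    Spec.map (CommRingCat.ofHom (algebraMap (separableClosure k (AlgebraicClosure k)) (AlgebraicClosure k))))
    (by rw [Category.assoc, ← Spec.map_comp, ← CommRingCat.ofHom_comp, ← IsScalarTower.algebraMap_eq]
        exact pullback.condition)

theorem toSep_fst : toSep k f ≫ pullback.fst _ _ = pullback.fst _ _ := pullback.lift_fst _ _ _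

theorem toSep_props : IsIntegralHom (toSep k f) ∧ UniversallyInjective (toSep k f) ∧ Surjective (toSep k f) := by
  let s := Spec.map (CommRingCat.ofHom (algebraMap (separableClosure k (AlgebraicClosure k)) (AlgebraicClosure k)))
  have sq : IsPullback (toSep k f) (pullback.snd f (sp k (AlgebraicClosure k))) (pullback.snd f _) s :=
    IsPullback.of_right (by
      rw [toSep_fst, ← Spec.map_comp, ← CommRingCat.ofHom_comp, ← IsScalarTower.algebraMap_eq]
      exact IsPullback.of_hasPullback _ _) (pullback.lift_snd _ _ _) (IsPullback.of_hasPullback _ _)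
  haveI : IsPurelyInseparable (separableClosure k (AlgebraicClosure k)) (AlgebraicClosure k) := inferInstance
  haveI : Algebra.IsAlgebraic (separableClosure k (AlgebraicClosure k)) (AlgebraicClosure k) :=
    Algebra.IsAlgebraic.tower_top (K := k) _
  haveI : IsIntegralHom s := IsIntegralHom.SpecMap_iff.2 (algebraMap_isIntegral_iff.2 inferInstance)
  haveI : UniversallyInjective s := GeomIrrLib.universallyInjective_specMap _ _
  haveI : Surjective s := ⟨fun x => ⟨(⟨⊥, Ideal.isPrime_bot⟩ : PrimeSpectrum (AlgebraicClosure k)),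
    @Subsingleton.elim (PrimeSpectrum ↥(separableClosure k (AlgebraicClosure k))) _ _ _⟩⟩
  exact ⟨MorphismProperty.of_isPullback sq.flip ‹IsIntegralHom s›,
    MorphismProperty.of_isPullback sq.flip ‹UniversallyInjective s›,
    MorphismProperty.of_isPullback sq.flip ‹Surjective s›⟩

theorem isEquivalence : (FEt.restrict (toSep k f)).IsEquivalence := by
  obtain ⟨_, _, _⟩ := toSep_props k f
  exact Groth.Agent.S0289.result (toSep k f)

theorem etale_finite_separable (L : Type u) [Field L] [Algebra k L] [FiniteDimensional k L]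
    [Algebra.IsSeparable k L] : IsFinite (sp k L) ∧ Etale (sp k L) := by
  haveI : Algebra.FormallyEtale k L := Algebra.FormallyEtale.of_isSeparable k L
  haveI : Algebra.FinitePresentation k L := Algebra.FinitePresentation.of_finiteType.mp inferInstance
  haveI : Algebra.Etale k L := ⟨inferInstance, inferInstance⟩
  exact ⟨(IsFinite.SpecMap_iff _).2 (RingHom.finite_algebraMap.2 inferInstance),
    (HasRingHomProperty.Spec_iff (P := @Etale)).2 (RingHom.etale_algebraMap.2 inferInstance)⟩

/-- A surjective cover of `X_k̄` is the pullback of a cover of some `X_L`, `L` finite separable. -/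
theorem exists_finite_separable [CompactSpace X] [QuasiSeparatedSpace X]
    (V : FEt.Cat (pullback f (sp k (AlgebraicClosure k)))) (hV : Surjective V.hom) :
    ∃ (L : IntermediateField k (separableClosure k (AlgebraicClosure k))) (_ : FiniteDimensional k L)
      (YL : Scheme.{u}) (gL : YL ⟶ pullback f (sp k L)) (_ : IsFinite gL) (_ : Etale gL)
      (π : pullback f (sp k (AlgebraicClosure k)) ⟶ pullback f (sp k L))
      (_ : π ≫ pullback.fst _ _ = pullback.fst _ _) (j : V.left ⟶ YL), IsPullback j V.hom gL π := by
  haveI := isEquivalence k f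
  let Vs := (FEt.restrict (toSep k f)).objPreimage V
  let e := (FEt.restrict (toSep k f)).objObjPreimageIso V
  let el : V.left ≅ pullback Vs.hom (toSep k f) :=
    (MorphismProperty.Over.forget _ _ _ ⋙ CategoryTheory.Over.forget _).mapIso e.symm
  have hel : el.hom ≫ pullback.snd Vs.hom (toSep k f) = V.hom := MorphismProperty.Over.w e.inv
  have sqV : IsPullback (el.hom ≫ pullback.fst Vs.hom (toSep k f)) V.hom Vs.hom (toSep k f) :=
    IsPullback.of_iso_pullback ⟨by rw [Category.assoc, pullback.condition, ← Category.assoc, hel]⟩ el rfl hel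
  haveI : IsFinite Vs.hom := Vs.prop.1
  haveI : Etale Vs.hom := Vs.prop.2
  haveI : Surjective Vs.hom := by
    haveI := (toSep_props k f).2.2
    refine ⟨fun y => ?_⟩
    obtain ⟨x, rfl⟩ := (toSep k f).surjective y
    obtain ⟨v, rfl⟩ := V.hom.surjective x
    exact ⟨(el.hom ≫ pullback.fst Vs.hom (toSep k f)) v, by
      rw [← Scheme.Hom.comp_apply, sqV.w, Scheme.Hom.comp_apply]⟩
  obtain ⟨L, hL, YL, gL, h1, h2, _, c, hc1, -, q, hq⟩ :=
    Groth.Agent.FEtSep.main k (separableClosure k (AlgebraicClosure k)) X f Vs.left Vs.hom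
  exact ⟨L, hL, YL, gL, h1, h2, toSep k f ≫ c, by rw [Category.assoc, hc1, toSep_fst], _,
    sqV.paste_horiz hq⟩

end PiSep

end
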