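import Groth.Agent.PiSepLib.GalImage
import Groth.Agent.SteinLib.EtaleMain
import Groth.Agent.SteinLib.FEtFF
import Groth.Agent.SteinLib.Fibre
import Groth.Agent.AlgSpLib.ReducedSmooth
import Groth.Agent.S0264

/-! # Covers with a section over a geometric fibre come from the base -/

set_option autoImplicit false
set_option linter.style.haveILetI false

universe u

open CategoryTheory CategoryTheory.Limits AlgebraicGeometry

noncomputable section

namespace PiSep

open PreGaloisCategory

theorem injective_map_of_singleton_fibre {X : Scheme.{u}} {Ω : Type u} [Field Ω] [IsAlgClosed Ω]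
    (ξ : Spec (CommRingCat.of Ω) ⟶ X) {U W : FEt.Cat X} [GaloisCategory (FEt.Cat X)]
    [FiberFunctor (FEtColim.finFiber ξ)] [PreGaloisCategory.IsConnected W] (φ : U ⟶ W)
    (w₀ : (FEtColim.finFiber ξ).obj W)
    (h : ∀ a b, (FEtColim.finFiber ξ).map φ a = w₀ → (FEtColim.finFiber ξ).map φ b = w₀ → a = b)
    (a₀ : (FEtColim.finFiber ξ).obj U) : IsIso φ := by
  let F := FEtColim.finFiber ξ
  have hbij : Function.Bijective (F.map φ) := by
    constructor
    · intro a b hab
      obtain ⟨g, hg⟩ := MulAction.exists_smul_eq (Aut F) (F.map φ a) w₀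
      have h1 : ∀ x, F.map φ (g • x) = g • F.map φ x := fun x =>
        (FunctorToFintypeCat.naturality _ _ g.hom φ x).symm
      exact MulAction.injective g (h _ _ ((h1 a).trans hg) ((h1 b).trans ((congrArg (g • ·) hab.symm).trans hg)))
    · haveI : Nonempty (F.obj U) := ⟨a₀⟩
      exact surjective_of_nonempty_fiber_of_isConnected F φ
  haveI : IsIso (F.map φ) := (ConcreteCategory.isIso_iff_bijective _).2 hbij
  exact isIso_of_reflects_iso φ F

theorem essImage_of_section {X S : Scheme.{u}} (f : X ⟶ S) [IsProper f] [Flat f] [LocallyOfFinitePresentation f]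
    [ConnectedSpace S]
    (hfib : ∀ (Ω : Type u) [Field Ω] [IsAlgClosed Ω] (s : Spec (CommRingCat.of Ω) ⟶ S),
      ConnectedSpace ↥(pullback f s) ∧ IsReduced (pullback f s))
    (Y : FEt.Cat X) [ConnectedSpace Y.left] (Ω : Type u) [Field Ω] [IsAlgClosed Ω]
    (s : Spec (CommRingCat.of Ω) ⟶ S) (σ : pullback f s ⟶ Y.left)
    (hσ : σ ≫ Y.hom = pullback.fst f s) : (FEt.restrict f).essImage Y := by
  haveI hgc : GeometricallyConnected f := SteinLib.gc_of_geometric_points f fun Ω _ _ s => (hfib Ω s).1
  haveI : ConnectedSpace X := GeometricallyConnected.connectedSpace f f.isOpenMap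
  let Yl : Scheme.{u} := Y.left
  let h : Yl ⟶ X := Y.hom
  haveI : IsFinite h := Y.prop.1
  haveI : Etale h := Y.prop.2
  haveI : ConnectedSpace Yl := ‹ConnectedSpace Y.left›
  let g : Yl ⟶ S := h ≫ f
  haveI : IsProper g := inferInstanceAs (IsProper (h ≫ f))
  haveI : Flat g := inferInstanceAs (Flat (h ≫ f))
  haveI : LocallyOfFinitePresentation g := inferInstanceAs (LocallyOfFinitePresentation (h ≫ f))
  haveI : GeometricallyReduced g := SteinLib.gr_of_geometric_points g fun Ω' _ _ σ' => by
    haveI := (hfib Ω' σ').2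
    haveI : Etale (pullback.snd h (pullback.fst f σ')) := MorphismProperty.pullback_snd _ _ ‹Etale h›
    haveI := AlgSpLib.isReduced_of_smooth (pullback.snd h (pullback.fst f σ'))
    exact isReduced_of_isOpenImmersion (pullbackLeftPullbackSndIso f σ' (𝟙 _) |> fun _ =>
      (pullbackRightPullbackFstIso f σ' h).inv)
  obtain ⟨hN1, hN2⟩ := SteinLib.finite_etale_fromNormalization g
  let V : FEt.Cat S := MorphismProperty.Over.mk ⊤ g.fromNormalization ⟨hN1, hN2⟩
  let π : g.normalization ⟶ S := g.fromNormalization
  let q : Yl ⟶ g.normalization := g.toNormalization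
  have hq : q ≫ π = h ≫ f := g.toNormalization_fromNormalization
  haveI : Surjective q := SteinLib.surjective_toNormalization g
  haveI : ConnectedSpace g.normalization := Surjective.surj.connectedSpace q.continuous
  haveI : ConnectedSpace ((FEt.restrict f).obj V).left := by
    have h1 : GeometricallyConnected (pullback.fst π f) := MorphismProperty.pullback_fst _ _ hgc
    have h2 : ConnectedSpace ↥g.normalization := inferInstance
    haveI : Flat (pullback.fst π f) := MorphismProperty.pullback_fst _ _ ‹Flat f›
    haveI : LocallyOfFinitePresentation (pullback.fst π f) := MorphismProperty.pullback_fst _ _ inferInstance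
    exact @GeometricallyConnected.connectedSpace _ _ (pullback.fst π f) h1 h2 (pullback.fst π f).isOpenMap
  let φ : Y ⟶ (FEt.restrict f).obj V :=
    MorphismProperty.Over.homMk (pullback.lift q h hq) (pullback.lift_snd _ _ _)
  haveI : Nonempty ↥(pullback f s) := (hfib Ω s).1.toNonempty
  haveI : JacobsonSpace ↥(pullback f s) := LocallyOfFiniteType.jacobsonSpace (pullback.snd f s)
  obtain ⟨p, hp⟩ : (closedPoints ↥(pullback f s)).Nonempty := by
    by_contra hh
    have := closure_closedPoints (X := ↥(pullback f s))
    rw [Set.not_nonempty_iff_eq_empty.1 hh, closure_empty] at this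
    exact Set.empty_ne_univ this
  let x : Spec (CommRingCat.of Ω) ⟶ pullback f s := pointOfClosedPoint (pullback.snd f s) p hp
  have hx : x ≫ pullback.snd f s = 𝟙 _ := pointOfClosedPoint_comp _ _ _
  let ξ : Spec (CommRingCat.of Ω) ⟶ X := x ≫ pullback.fst f s
  letI := FEtColim.preGaloisCategory X
  haveI hF : FiberFunctor (FEtColim.finFiber ξ) := (FEtColim.fiberFunctor ξ).some
  letI : GaloisCategory (FEt.Cat X) := { hasFiberFunctor := ⟨_, ⟨hF⟩⟩ }
  haveI := isConnected_of_connectedSpace ξ ((FEt.restrict f).obj V)
  let a₀ : FEt.fiberObj ξ Y := ⟨x ≫ σ, by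
    show (x ≫ σ) ≫ Y.hom = x ≫ pullback.fst f s
    rw [Category.assoc, hσ]⟩
  haveI : IsIso φ := by
    refine injective_map_of_singleton_fibre ξ φ ((FEtColim.finFiber ξ).map φ a₀) ?_ a₀
    suffices H : ∀ a : FEt.fiberObj ξ Y, a.1 ≫ (pullback.lift q h hq) = a₀.1 ≫ (pullback.lift q h hq) → a = a₀ by
      intro a b ha hb
      exact (H a (congrArg Subtype.val ha)).trans (H b (congrArg Subtype.val hb)).symm
    intro a ha
    have haq : a.1 ≫ q = (x ≫ σ) ≫ q := by
      have := congrArg (· ≫ pullback.fst π f) ha
      simp only [Category.assoc, pullback.lift_fst] at this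
      exact this
    have hah : a.1 ≫ h = x ≫ pullback.fst f s := a.2
    have has : a.1 ≫ g = 𝟙 _ ≫ s := by
      show a.1 ≫ h ≫ f = _
      rw [reassoc_of% hah, pullback.condition, ← Category.assoc, hx]
    have hσg : σ ≫ g = pullback.snd f s ≫ s := by
      show σ ≫ h ≫ f = _
      rw [← Category.assoc, show σ ≫ h = pullback.fst f s from hσ, pullback.condition]
    let σ' : pullback f s ⟶ pullback g s := pullback.lift σ (pullback.snd f s) hσg
    let pr : pullback g s ⟶ pullback f s := pullback.map g s f s h (𝟙 _) (𝟙 _) (Category.comp_id _) (by simp)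
    have hpr : σ' ≫ pr = 𝟙 _ := by
      apply pullback.hom_ext
      · rw [Category.assoc, Category.id_comp, pullback.lift_fst, pullback.lift_fst_assoc]
        exact hσ
      · rw [Category.assoc, Category.id_comp, pullback.lift_snd, pullback.lift_snd_assoc, Category.comp_id]
    let y : Spec (CommRingCat.of Ω) ⟶ pullback g s := pullback.lift a.1 (𝟙 _) has
    have hσg0 : (x ≫ σ) ≫ g = 𝟙 _ ≫ s := by rw [Category.assoc, hσg, ← Category.assoc, hx]
    let y₀ : Spec (CommRingCat.of Ω) ⟶ pullback g s := pullback.lift (x ≫ σ) (𝟙 _) hσg0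
    have hy₀ : y₀ = x ≫ σ' := by
      apply pullback.hom_ext
      · rw [Category.assoc, pullback.lift_fst, pullback.lift_fst]
      · rw [Category.assoc, pullback.lift_snd, pullback.lift_snd, hx]
    have hpm : y ≫ SteinLib.pm g s = y₀ ≫ SteinLib.pm g s := by
      apply pullback.hom_ext
      · simp only [SteinLib.pm, Category.assoc, pullback.lift_fst]
        rw [pullback.lift_fst_assoc, pullback.lift_fst_assoc]
        exact haq
      · rw [Category.assoc, Category.assoc, SteinLib.pm_snd, pullback.lift_snd, pullback.lift_snd]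
    haveI : IsSplitMono σ' := ⟨⟨⟨pr, hpr⟩⟩⟩
    let cpt := IsLocalRing.closedPoint Ω
    have hmem : connectedComponent (y cpt) = connectedComponent (y₀ cpt) :=
      (SteinLib.pm_eq_iff g s _ _).1 (congrArg (fun z => z cpt) hpm)
    haveI : Etale pr := by
      have hP : IsPullback (pullback.fst g s) pr h (pullback.fst f s) :=
        IsPullback.of_bot (by rw [show pr ≫ pullback.snd f s = pullback.snd g s from (pullback.lift_snd _ _ _).trans (Category.comp_id _)]; exact IsPullback.of_hasPullback g s) (pullback.lift_fst _ _ _).symm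
          (IsPullback.of_hasPullback f s)
      exact MorphismProperty.of_isPullback hP ‹Etale h›
    haveI : IsFinite pr := by
      have hP : IsPullback (pullback.fst g s) pr h (pullback.fst f s) :=
        IsPullback.of_bot (by rw [show pr ≫ pullback.snd f s = pullback.snd g s from (pullback.lift_snd _ _ _).trans (Category.comp_id _)]; exact IsPullback.of_hasPullback g s) (pullback.lift_fst _ _ _).symm
          (IsPullback.of_hasPullback f s)
      exact MorphismProperty.of_isPullback hP ‹IsFinite h›
    haveI : Etale (σ' ≫ pr) := by rw [hpr]; infer_instance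
    haveI : Etale σ' := Etale.of_comp σ' pr
    haveI : IsFinite (σ' ≫ pr) := by rw [hpr]; infer_instance
    haveI : IsFinite σ' := IsFinite.of_comp σ' pr
    haveI : IsOpenImmersion σ' := IsOpenImmersion.of_flat_of_mono σ'
    have hcl : IsClopen (Set.range σ') := ⟨σ'.isClosedMap.isClosed_range, σ'.isOpenMap.isOpen_range⟩
    have hyr : y cpt ∈ Set.range σ' := by
      refine hcl.connectedComponent_subset (x := y₀ cpt) ?_ (hmem ▸ mem_connectedComponent)
      rw [hy₀]
      exact ⟨x cpt, rfl⟩
    have hyR : Set.range y ⊆ Set.range σ' := by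
      rintro _ ⟨t, rfl⟩
      rwa [show t = cpt from Subsingleton.elim (α := PrimeSpectrum Ω) _ _]
    let x' := IsOpenImmersion.lift σ' y hyR
    have hx' : x' ≫ σ' = y := IsOpenImmersion.lift_fac _ _ _
    have hxx : x' = x := by
      have h1 : x' = y ≫ pr := by rw [← hx', Category.assoc, hpr, Category.comp_id]
      rw [h1]
      apply pullback.hom_ext
      · rw [Category.assoc, pullback.lift_fst, pullback.lift_fst_assoc]
        exact hah
      · rw [Category.assoc, pullback.lift_snd, pullback.lift_snd_assoc, hx, Category.comp_id]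
    exact Subtype.ext (by
      show a.1 = x ≫ σ
      rw [← hxx, ← pullback.lift_fst a.1 (𝟙 _) has]
      show y ≫ _ = _
      rw [← hx', Category.assoc, pullback.lift_fst])
  exact ⟨V, ⟨(asIso φ).symm⟩⟩

end PiSep

end
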